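import Cfsg.Agent.Chars.Basic
import Cfsg.Agent.Chars.Induced.Gallagher
import Cfsg.Agent.Chars.Induced.Clifford
import Cfsg.Agent.Glauberman.Layers
import Mathlib.GroupTheory.RegularWreathProduct

/-!
# M-groups are closed under wreath products with groups of prime order
-/

set_option autoImplicit false

noncomputable section

namespace CfsgLib.MGroupWreath

open Cfsg CfsgLib.Chars CfsgLib.Chars.Induced
open scoped ComplexConjugate

universe u v

/-- Every irreducible character is induced from a linear character of a subgroup. -/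
def IsMon (M : Type u) [Group M] [Fintype M] : Prop :=
  ∀ χ : M → ℂ, IsIrrCharacter M χ →
    ∃ (H : Subgroup M) (lam : ↥H →* ℂˣ), χ = indFun H (fun h => (lam h : ℂ))

section Transport

variable {G : Type u} [Group G] [Fintype G]

theorem indFun_congr_subgroup {H K : Subgroup G} (h : H = K) (θ : H → ℂ) :
    indFun H θ = indFun K (fun k => θ ⟨k, h.symm ▸ k.2⟩) := by
  subst h; rfl

theorem indFun_map {A : Type v} [Group A] [Fintype A] (e : A ≃* G) (U : Subgroup A) (θ : U → ℂ)
    (a : A) : indFun (U.map e.toMonoidHom)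
      (fun h => θ ⟨e.symm h, by obtain ⟨x, hx, he⟩ := h.2; simpa [← he] using hx⟩) (e a) =
    indFun U θ a := by
  simp only [indFun]
  rw [← Nat.card_congr (U.equivMapOfInjective e.toMonoidHom e.injective).toEquiv]
  congr 1
  refine (Fintype.sum_equiv e.toEquiv _ _ fun x => ?_).symm
  simp only [MulEquiv.toEquiv_eq_coe, EquivLike.coe_coe, ← map_inv, ← map_mul]
  by_cases hm : x⁻¹ * a * x ∈ U
  · rw [extendByZero_mem θ hm]
    refine Eq.trans ?_ (extendByZero_mem _
      (show e (x⁻¹ * a * x) ∈ U.map e.toMonoidHom from Subgroup.mem_map_of_mem e.toMonoidHom hm)).symm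
    exact congrArg θ (Subtype.ext (e.symm_apply_apply _).symm)
  · rw [extendByZero_notMem θ hm, extendByZero_notMem _ (by
      rintro ⟨y, hy, he⟩
      exact hm (e.injective he ▸ hy))]

theorem IsMon.of_mulEquiv {A : Type v} [Group A] [Fintype A] (hA : IsMon A) (e : A ≃* G) :
    IsMon G := by
  intro χ hχ
  obtain ⟨U, l, hl⟩ := hA (fun a => χ (e a)) (isIrrCharacter_comp_mulEquiv hχ e)
  refine ⟨U.map e.toMonoidHom,
    l.comp (U.equivMapOfInjective e.toMonoidHom e.injective).symm.toMonoidHom, ?_⟩
  funext g
  obtain ⟨a, rfl⟩ := e.surjective g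
  refine (congrFun hl a).trans ?_
  rw [← indFun_map e U (fun h => (l h : ℂ)) a]
  refine congrArg (fun f => indFun _ f (e a)) (funext fun h => ?_)
  simp only [MonoidHom.comp_apply]
  refine congrArg (fun z => (l z : ℂ)) (Subtype.ext (e.injective ?_))
  rw [MulEquiv.apply_symm_apply]
  exact congrArg Subtype.val
    ((U.equivMapOfInjective e.toMonoidHom e.injective).apply_symm_apply h).symm

theorem isMon_of_commutator_eq_bot (h : commutator G = ⊥) : IsMon G := by
  intro χ hχ
  obtain ⟨l, hl⟩ := exists_linChar_eq ⟨χ, hχ⟩ (map_one_eq_one_of_commutator_eq_bot h ⟨χ, hχ⟩)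
  refine ⟨⊤, l.comp (⊤ : Subgroup G).subtype, funext fun g => ?_⟩
  have hval : ∀ y : G, χ y = (l y : ℂ) := fun y => by
    rw [show χ = (linChar l : G → ℂ) from (congrArg Subtype.val hl).symm, linChar_apply]
  simp only [indFun, extendByZero_mem _ (Subgroup.mem_top _), Subgroup.card_top,
    MonoidHom.comp_apply, Subgroup.coe_subtype, ← hval,
    ]
  have e : ∀ x : G, χ (x⁻¹ * g * x) = χ g := fun x => by
    simpa using Chars.isClassFunction_of_isCharacter (isCharacter_of_isIrrCharacter hχ) g x⁻¹
  simp only [e, Finset.sum_const, Finset.card_univ, nsmul_eq_mul, ← Nat.card_eq_fintype_card,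
    inv_mul_cancel_left₀ card_ne_zero']

end Transport

section Power

variable {ι : Type v} [Fintype ι] {M : Type u} [Group M] [Fintype M]

theorem classInner_prod [Fintype (ι → M)] (x y : ι → M → ℂ) :
    classInner (fun f : ι → M => ∏ i, x i (f i)) (fun f => ∏ i, y i (f i)) =
      ∏ i, classInner (x i) (y i) := by
  classical
  simp only [classInner, Finset.prod_mul_distrib, Finset.prod_const, map_prod, Nat.card_fun,
    Nat.cast_pow, inv_pow, Finset.card_univ, ← Nat.card_eq_fintype_card]
  rw [Fintype.prod_sum]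
  congr 1
  refine Finset.sum_congr (Finset.ext fun f => by simp) fun f _ => ?_
  rw [Finset.prod_mul_distrib]

theorem isCharacter_prod (x : ι → IrrCharacter M) :
    IsCharacter (ι → M) (fun f : ι → M => ∏ i, (x i : M → ℂ) (f i)) := by
  classical
  have h : ∀ s : Finset ι, IsCharacter (ι → M) (fun f : ι → M => ∏ i ∈ s, (x i : M → ℂ) (f i)) := by
    intro s
    induction s using Finset.induction_on with
    | empty => simpa [Pi.one_def] using (isCharacter_one (G := ι → M))
    | @insert a s ha ih =>
      simp only [Finset.prod_insert ha]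
      exact isCharacter_mul (isCharacter_comp (isCharacter_coe (x a))
        (Pi.evalMonoidHom (fun _ => M) a)) ih
  exact h Finset.univ

theorem isIrr_prod [Fintype (ι → M)] (x : ι → IrrCharacter M) :
    IsIrrCharacter (ι → M) (fun f : ι → M => ∏ i, (x i : M → ℂ) (f i)) :=
  isIrrCharacter_of_classInner_self (isCharacter_prod x) (by
    rw [classInner_prod]
    exact Finset.prod_eq_one fun i _ => classInner_self (x i))

theorem exists_prod_eq [Fintype (ι → M)] {θ : (ι → M) → ℂ} (hθ : IsIrrCharacter (ι → M) θ) :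
    ∃ x : ι → IrrCharacter M, θ = fun f => ∏ i, (x i : M → ℂ) (f i) := by
  classical
  let F : (ι → IrrCharacter M) → IrrCharacter (ι → M) := fun x => ⟨_, isIrr_prod x⟩
  have hinj : Function.Injective F := by
    intro x y hxy
    have h1 := classInner_prod (fun i => (x i : M → ℂ)) (fun i => (y i : M → ℂ))
    rw [show (fun f : ι → M => ∏ i, (x i : M → ℂ) (f i)) = fun f => ∏ i, (y i : M → ℂ) (f i)
      from congrArg Subtype.val hxy, classInner_prod,
      Finset.prod_eq_one (fun i _ => classInner_self (y i))] at h1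
    funext i
    by_contra hne
    exact one_ne_zero (h1.trans (Finset.prod_eq_zero (Finset.mem_univ i)
      (by rw [classInner_irr, if_neg hne])))
  have hcard : Nat.card (IrrCharacter (ι → M)) ≤ Nat.card (ι → IrrCharacter M) := by
    rw [Nat.card_fun, card_irrCharacter, card_irrCharacter, ← Nat.card_fun]
    refine Nat.card_le_card_of_surjective
      (fun q : ι → ConjClasses M => ConjClasses.mk fun i => Quotient.out (q i)) ?_
    intro K
    obtain ⟨f, rfl⟩ := ConjClasses.mk_surjective K
    refine ⟨fun i => ConjClasses.mk (f i), ConjClasses.mk_eq_mk_iff_isConj.2 ?_⟩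
    choose c hc using fun i => isConj_iff.1
      (ConjClasses.mk_eq_mk_iff_isConj.1 (Quotient.out_eq (ConjClasses.mk (f i))))
    exact isConj_iff.2 ⟨c, funext hc⟩
  obtain ⟨x, hx⟩ := (hinj.bijective_of_nat_card_le hcard).2 ⟨θ, hθ⟩
  exact ⟨x, (congrArg Subtype.val hx).symm⟩

/-- The product subgroup of a power. -/
def piSub (U : ι → Subgroup M) : Subgroup (ι → M) := Subgroup.pi Set.univ U

theorem mem_piSub {U : ι → Subgroup M} {f : ι → M} : f ∈ piSub U ↔ ∀ i, f i ∈ U i := by
  simp [piSub, Subgroup.mem_pi]

/-- The product of linear characters on a product subgroup. -/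
def piLam (U : ι → Subgroup M) (l : ∀ i, U i →* ℂˣ) : piSub U →* ℂˣ where
  toFun f := ∏ i, l i ⟨f.1 i, mem_piSub.1 f.2 i⟩
  map_one' := Finset.prod_eq_one fun i _ => map_one (l i)
  map_mul' f g := by
    rw [← Finset.prod_mul_distrib]
    exact Finset.prod_congr rfl fun i _ => map_mul (l i) ⟨f.1 i, mem_piSub.1 f.2 i⟩
      ⟨g.1 i, mem_piSub.1 g.2 i⟩

theorem card_piSub (U : ι → Subgroup M) : Nat.card (piSub U) = ∏ i, Nat.card (U i) := by
  rw [← Nat.card_pi]
  exact Nat.card_congr
    { toFun := fun f i => ⟨f.1 i, mem_piSub.1 f.2 i⟩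
      invFun := fun f => ⟨fun i => (f i).1, mem_piSub.2 fun i => (f i).2⟩
      left_inv := fun f => rfl
      right_inv := fun f => rfl }

theorem indFun_piLam [Fintype (ι → M)] (U : ι → Subgroup M) (l : ∀ i, U i →* ℂˣ) (f : ι → M) :
    indFun (piSub U) (fun h => (piLam U l h : ℂ)) f =
      ∏ i, indFun (U i) (fun h => (l i h : ℂ)) (f i) := by
  classical
  simp only [indFun, Finset.prod_mul_distrib, Finset.prod_inv_distrib]
  rw [card_piSub, Nat.cast_prod, Fintype.prod_sum]
  congr 1
  refine Finset.sum_congr (Finset.ext fun y => by simp) fun y _ => ?_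
  by_cases h : y⁻¹ * f * y ∈ piSub U
  · rw [extendByZero_mem _ h]
    simp only [piLam, MonoidHom.coe_mk, OneHom.coe_mk, Units.coe_prod]
    exact Finset.prod_congr rfl fun i _ =>
      (extendByZero_mem (fun h => (l i h : ℂ)) (mem_piSub.1 h i)).symm
  · rw [extendByZero_notMem _ h]
    rw [mem_piSub, not_forall] at h
    obtain ⟨i, hi⟩ := h
    exact (Finset.prod_eq_zero (Finset.mem_univ i)
      (extendByZero_notMem (H := U i) (fun h => (l i h : ℂ)) hi)).symm

theorem IsMon.power [Fintype (ι → M)] (hM : IsMon M) : IsMon (ι → M) := by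
  intro χ hχ
  obtain ⟨x, rfl⟩ := exists_prod_eq hχ
  choose U l hl using fun i => hM _ (x i).2
  refine ⟨piSub U, piLam U l, funext fun f => ?_⟩
  rw [indFun_piLam]
  exact Finset.prod_congr rfl fun i _ => congrFun (hl i) (f i)

end Power

section Wreath

variable {M : Type u} [Group M] {Q : Type u} [Group Q]

/-- The base group as the image of the functions. -/
def baseEquiv : (Q → M) ≃* (RegularWreathProduct.rightHom (D := M) (Q := Q)).ker where
  toFun f := ⟨⟨f, 1⟩, rfl⟩
  invFun w := w.1.left
  left_inv f := rfl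
  right_inv w := Subtype.ext (RegularWreathProduct.ext rfl (show (1 : Q) = w.1.right from w.2.symm))
  map_mul' f g := Subtype.ext (RegularWreathProduct.ext
    (funext fun x => show f x * g x = f x * g (1⁻¹ * x) by simp) (one_mul _).symm)

theorem conj_base_left (w : RegularWreathProduct M Q) (f : Q → M) (q : Q) :
    (w⁻¹ * ⟨f, 1⟩ * w).left q = (w.left (w.right * q))⁻¹ * f (w.right * q) * w.left (w.right * q) := by
  simp [RegularWreathProduct.mul_def, RegularWreathProduct.inv_left,
    RegularWreathProduct.inv_right]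

theorem conj_base_right (w : RegularWreathProduct M Q) (f : Q → M) :
    (w⁻¹ * ⟨f, 1⟩ * w).right = 1 := by
  simp [RegularWreathProduct.mul_def]

variable [Fintype Q]

/-- The elements whose coordinates lie in a subgroup. -/
def wrSub (U : Subgroup M) : Subgroup (RegularWreathProduct M Q) where
  carrier := {w | ∀ q, w.left q ∈ U}
  one_mem' _ := U.one_mem
  mul_mem' ha hb q := U.mul_mem (ha q) (hb _)
  inv_mem' ha _ := U.inv_mem (ha _)

/-- The product of a linear character over the coordinates. -/
def wrLam (U : Subgroup M) (l : U →* ℂˣ) : wrSub (Q := Q) U →* ℂˣ where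
  toFun w := ∏ q, l ⟨w.1.left q, w.2 q⟩
  map_one' := Finset.prod_eq_one fun q _ => map_one l
  map_mul' a b := by
    rw [← Equiv.prod_comp (Equiv.mulLeft a.1.right⁻¹) (fun q => l ⟨b.1.left q, b.2 q⟩),
      ← Finset.prod_mul_distrib]
    exact Finset.prod_congr rfl fun q _ => map_mul l ⟨a.1.left q, a.2 q⟩
      ⟨b.1.left (a.1.right⁻¹ * q), b.2 _⟩

variable [Fintype M] [Fintype (RegularWreathProduct M Q)]

theorem card_wrSub (U : Subgroup M) :
    Nat.card (wrSub (Q := Q) U) = Nat.card U ^ Nat.card Q * Nat.card Q := by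
  rw [← Nat.card_fun, ← Nat.card_prod]
  exact Nat.card_congr
    { toFun := fun w => (fun q => ⟨w.1.left q, w.2 q⟩, w.1.right)
      invFun := fun p => ⟨⟨fun q => (p.1 q).1, p.2⟩, fun q => (p.1 q).2⟩
      left_inv := fun w => rfl
      right_inv := fun p => rfl }

theorem indFun_wrLam (U : Subgroup M) (l : U →* ℂˣ) (f : Q → M) :
    indFun (wrSub U) (fun h => (wrLam U l h : ℂ)) (⟨f, 1⟩ : RegularWreathProduct M Q) =
      ∏ q, indFun U (fun h => (l h : ℂ)) (f q) := by
  classical
  simp only [indFun, Finset.prod_mul_distrib, Finset.prod_const, Finset.card_univ, inv_pow,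
    ← Nat.card_eq_fintype_card]
  rw [card_wrSub, Nat.cast_mul, Nat.cast_pow, Fintype.prod_sum]
  have hval : ∀ w : RegularWreathProduct M Q,
      extendByZero (wrSub U) (fun h => (wrLam U l h : ℂ)) (w⁻¹ * ⟨f, 1⟩ * w) =
        ∏ q, extendByZero U (fun h => (l h : ℂ)) ((w.left q)⁻¹ * f q * w.left q) := by
    intro w
    rw [← Equiv.prod_comp (Equiv.mulLeft w.right)
      (fun q => extendByZero U (fun h => (l h : ℂ)) ((w.left q)⁻¹ * f q * w.left q))]
    simp only [Equiv.coe_mulLeft]
    by_cases h : w⁻¹ * ⟨f, 1⟩ * w ∈ wrSub U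
    · rw [extendByZero_mem _ h]
      simp only [wrLam, MonoidHom.coe_mk, OneHom.coe_mk, Units.coe_prod]
      refine Finset.prod_congr rfl fun q _ => ?_
      rw [← conj_base_left]
      exact (extendByZero_mem (fun h => (l h : ℂ)) (h q)).symm
    · rw [extendByZero_notMem _ h]
      obtain ⟨q, hq⟩ : ∃ q, (w⁻¹ * ⟨f, 1⟩ * w).left q ∉ U := by
        by_contra! hc
        exact h hc
      rw [conj_base_left] at hq
      exact (Finset.prod_eq_zero (Finset.mem_univ q)
        (extendByZero_notMem (H := U) (fun h => (l h : ℂ)) hq)).symm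
  simp only [hval]
  rw [← Equiv.sum_comp (RegularWreathProduct.equivProd M Q).symm, Fintype.sum_prod_type]
  simp only [show ∀ (g : Q → M) (k : Q),
    ((RegularWreathProduct.equivProd M Q).symm (g, k)).left = g from fun g k => rfl,
    Finset.sum_const, Finset.card_univ, nsmul_eq_mul, ← Finset.mul_sum,
    ← Nat.card_eq_fintype_card]
  have hQ : (Nat.card Q : ℂ) ≠ 0 := Nat.cast_ne_zero.2 Nat.card_pos.ne'
  field_simp

theorem IsMon.wreath (hM : IsMon M) (hQ : (Nat.card Q).Prime) :
    IsMon (RegularWreathProduct M Q) := by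
  classical
  haveI : Fintype (Q → M) := Pi.instFintype
  set B : Subgroup (RegularWreathProduct M Q) :=
    (RegularWreathProduct.rightHom (D := M) (Q := Q)).ker with hBdef
  haveI : Fintype B := Fintype.ofFinite _
  let e : (Q → M) ≃* B := baseEquiv
  have hB : IsMon B := (IsMon.power hM).of_mulEquiv e
  have hidx : B.index = Nat.card Q := by
    rw [hBdef, Subgroup.index_ker]
    rw [MonoidHom.range_eq_top.2 fun q => ⟨RegularWreathProduct.inl q, rfl⟩, Subgroup.card_top]
  intro χ hχ
  let X : IrrCharacter (RegularWreathProduct M Q) := ⟨χ, hχ⟩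
  have hχB := isCharacter_restrict (isCharacter_coe X) B
  obtain ⟨θ, hθ⟩ := exists_mult_ne_zero hχB fun h0 => map_one_ne_zero X (by
    simpa using congrFun h0 (1 : B))
  rcases Nat.Prime.eq_one_or_self_of_dvd hQ _ (Subgroup.relIndex_dvd_index_of_le
      (le_inertia (isClassFunction_coe θ)) |> fun h => hidx ▸ h) with h1 | h1
  · -- the inertia group is the base
    have hle : inertia B (θ : B → ℂ) ≤ B := Subgroup.relIndex_eq_one.1 h1
    have hirr := isIrrCharacter_indFun_normal θ (le_antisymm hle (le_inertia (isClassFunction_coe θ)))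
    have heq : χ = indFun B (θ : B → ℂ) := by
      by_contra hne
      have hne' : (⟨_, hirr⟩ : IrrCharacter (RegularWreathProduct M Q)) ≠ X :=
        fun h => hne (congrArg Subtype.val h).symm
      have h2 := classInner_irr_of_ne hne'
      change classInner (indFun B (θ : B → ℂ)) χ = 0 at h2
      rw [classInner_indFun B _ (isClassFunction_coe X),
        classInner_irr_left_eq_mult hχB, Nat.cast_eq_zero] at h2
      exact hθ h2
    obtain ⟨U, l, hl⟩ := hB _ θ.2
    have hsub : (U.map B.subtype).subgroupOf B = U :=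
      Subgroup.comap_map_eq_self_of_injective B.subtype_injective U
    refine ⟨U.map B.subtype,
      l.comp (U.equivMapOfInjective B.subtype B.subtype_injective).symm.toMonoidHom, ?_⟩
    rw [heq, ← indFun_trans (Subgroup.map_subtype_le U), indFun_congr_subgroup hsub, hl]
    refine congrArg (fun f => indFun B (indFun U f)) (funext fun k => ?_)
    simp only [MonoidHom.comp_apply]
    refine congrArg (fun z => (l z : ℂ)) ?_
    refine ((U.equivMapOfInjective B.subtype B.subtype_injective).symm_apply_apply k).symm.trans ?_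
    exact congrArg _ (Subtype.ext rfl)
  · -- the constituent is invariant
    have htop : inertia B (θ : B → ℂ) = ⊤ := by
      have h2 := Subgroup.relIndex_mul_index
        (le_inertia (N := B) (isClassFunction_coe θ))
      rw [h1, hidx] at h2
      exact Subgroup.index_eq_one.1 (by
        simpa [Nat.card_pos.ne'] using h2)
    obtain ⟨x, hx⟩ := exists_prod_eq (isIrrCharacter_comp_mulEquiv θ.2 e)
    have hshift : ∀ (k : Q) (f : Q → M),
        ∏ q, (x q : M → ℂ) (f (k⁻¹ * q)) = ∏ q, (x q : M → ℂ) (f q) := by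
      intro k f
      have hmem : RegularWreathProduct.inl k ∈ inertia B (θ : B → ℂ) := htop ▸ Subgroup.mem_top _
      have h2 := mem_inertia_iff_forall.1 hmem (e f) (e fun q => f (k⁻¹ * q)) ?_
      · exact (congrFun hx (fun q => f (k⁻¹ * q))).symm.trans (h2.trans (congrFun hx f))
      · show (⟨fun q => f (k⁻¹ * q), 1⟩ : RegularWreathProduct M Q) =
          RegularWreathProduct.inl k * ⟨f, 1⟩ * (RegularWreathProduct.inl k)⁻¹
        ext q
        · simp [RegularWreathProduct.mul_def, RegularWreathProduct.inv_left]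
        · simp [RegularWreathProduct.mul_def]
    have hall : ∀ q, x q = x 1 := by
      intro q
      have hdeg : ∀ i, (x i : M → ℂ) 1 ≠ 0 := fun i => map_one_ne_zero (x i)
      have key : ∀ (i : Q) (m : M), ∏ j, (x j : M → ℂ) (if j = i then m else 1) =
          (∏ j, (x j : M → ℂ) 1) * ((x i : M → ℂ) m / (x i : M → ℂ) 1) := by
        intro i m
        rw [← Finset.mul_prod_erase _ _ (Finset.mem_univ i),
          ← Finset.mul_prod_erase _ (fun j => (x j : M → ℂ) 1) (Finset.mem_univ i), if_pos rfl]
        rw [Finset.prod_congr rfl fun j hj => by rw [if_neg (Finset.ne_of_mem_erase hj)]]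
        field_simp [hdeg i]
      have hr : ∀ m, (x q : M → ℂ) m / (x q : M → ℂ) 1 = (x 1 : M → ℂ) m / (x 1 : M → ℂ) 1 := by
        intro m
        have h2 := hshift q (fun j => if j = 1 then m else 1)
        simp only [inv_mul_eq_one, eq_comm (a := q)] at h2
        rw [key, key] at h2
        exact mul_left_cancel₀ (Finset.prod_ne_zero_iff.2 fun i _ => hdeg i) h2
      by_contra hne
      have h0 := classInner_irr_of_ne hne
      have heq : (x q : M → ℂ) = ((x q : M → ℂ) 1 / (x 1 : M → ℂ) 1) • (x 1 : M → ℂ) := by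
        funext m
        have := hr m
        rw [div_eq_iff (hdeg q)] at this
        rw [this, Pi.smul_apply, smul_eq_mul]
        ring
      rw [heq, Induced.classInner_smul_left, classInner_irr_self, mul_one] at h0
      exact div_ne_zero (hdeg q) (hdeg 1) h0
    obtain ⟨U, l, hl⟩ := hM _ (x 1).2
    let Ψ : RegularWreathProduct M Q → ℂ := indFun (wrSub U) (fun h => (wrLam U l h : ℂ))
    have hΨc : IsCharacter (RegularWreathProduct M Q) Ψ :=
      isCharacter_indFun _ (isCharacter_coe (linChar (wrLam U l)))
    have hΨB : ∀ n : B, Ψ n = (θ : B → ℂ) n := by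
      intro n
      obtain ⟨f, rfl⟩ := e.surjective n
      refine (indFun_wrLam U l f).trans ?_
      refine Eq.trans ?_ (congrFun hx f).symm
      refine Finset.prod_congr rfl fun q _ => ?_
      rw [hall q, hl]
    have hΨ : IsIrrCharacter (RegularWreathProduct M Q) Ψ :=
      CfsgLib.Glauberman.isIrrCharacter_of_restrict B.subtype hΨc θ hΨB
    obtain ⟨β, hβ⟩ := gallagher_exists ⟨Ψ, hΨ⟩ θ hΨB X hθ
    haveI : Fintype (RegularWreathProduct M Q ⧸ B) := Fintype.ofFinite _
    have hcyc : IsCyclic (RegularWreathProduct M Q ⧸ B) := by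
      haveI := Fact.mk hQ
      exact isCyclic_of_prime_card (p := Nat.card Q) hidx
    have hab : commutator (RegularWreathProduct M Q ⧸ B) = ⊥ := by
      rw [commutator_def, Subgroup.commutator_eq_bot_iff_le_centralizer]
      intro a _
      rw [Subgroup.mem_centralizer_iff]
      intro b _
      exact (inferInstance : IsMulCommutative (RegularWreathProduct M Q ⧸ B)).is_comm.comm b a
    obtain ⟨m, hm⟩ := exists_linChar_eq β (map_one_eq_one_of_commutator_eq_bot hab β)
    refine ⟨wrSub U, wrLam U l * (m.comp (QuotientGroup.mk' B)).comp (wrSub U).subtype, ?_⟩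
    change (X : RegularWreathProduct M Q → ℂ) = _
    rw [hβ, ← hm]
    refine (indFun_mul (wrSub U) (fun h => (wrLam U l h : ℂ))
      (φ := fun g : RegularWreathProduct M Q =>
        (linChar m : RegularWreathProduct M Q ⧸ B → ℂ) ((g : RegularWreathProduct M Q ⧸ B))) ?_).trans ?_
    · exact Chars.isClassFunction_of_isCharacter
        (isCharacter_comp (isCharacter_coe (linChar m)) (QuotientGroup.mk' B))
    · refine congrArg (indFun (wrSub U)) (funext fun h => ?_)
      simp [linChar_apply]

end Wreath

section Embedding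

variable {G : Type u} [Group G] (N : Subgroup G) [N.Normal]

/-- The Kaloujnine-Krasner embedding, followed by a homomorphism on the kernel. -/
def kkHom {D : Type u} [Group D] (f : N →* D) : G →* RegularWreathProduct D (G ⧸ N) where
  toFun g := ⟨fun q => f ⟨q.out⁻¹ * g * ((g : G ⧸ N)⁻¹ * q).out, by
    rw [← QuotientGroup.eq_one_iff]
    simp⟩, (g : G ⧸ N)⟩
  map_one' := by
    ext q
    · show f _ = 1
      rw [← map_one f]
      congr 1
      ext
      simp
    · rfl
  map_mul' g h := by
    ext q
    · show f _ = f _ * f _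
      rw [← map_mul]
      congr 1
      ext
      simp [mul_assoc]
    · rfl

theorem kkHom_injective {D : Type u} [Group D] {f : N →* D} (hf : Function.Injective f) :
    Function.Injective (kkHom N f) := by
  rw [injective_iff_map_eq_one]
  intro g hg
  have h1 : (g : G ⧸ N) = 1 := congrArg RegularWreathProduct.right hg
  have h2 := congrFun (congrArg RegularWreathProduct.left hg) 1
  have h3 : f _ = f 1 := h2.trans (map_one f).symm
  have h4 := congrArg Subtype.val (hf h3)
  simp only [h1, inv_one, one_mul, Subgroup.coe_one] at h4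
  have h5 := congrArg (fun z => Quotient.out (1 : G ⧸ N) * z * (Quotient.out (1 : G ⧸ N))⁻¹) h4
  simpa [mul_assoc] using h5

end Embedding

end CfsgLib.MGroupWreath
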